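import Cfsg.Agent.H419.EP.Soc
import Cfsg.Agent.H775.EP.ModelOmega
import Cfsg.Agent.H173.EP.LineBound
import Cfsg.Agent.H59.EP.UBGen
import Cfsg.Agent.H839.EP.AltTen
import Cfsg.Agent.S0292
import Cfsg.Agent.S0813
import Cfsg.Agent.S0265
import Cfsg.Agent.S2119
import Cfsg.Agent.ClassicalGeometry.PSL2Basic

/-!
# S3499, layer IV: the row `Ω₉(q)` (helper7)

* `Model.card_omega` : `|Q| = |PΩ(Qf)|` for every `Model Q (omegaGL Qf)`;
* `card_nine` : `2 |Q| = q¹⁶ (q² - 1)(q⁴ - 1)(q⁶ - 1)(q⁸ - 1)`;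
* `row_nine`.
-/

set_option autoImplicit false

namespace Cfsg.Agent.H7.EP

open Subgroup Cfsg.Agent.H284 Cfsg.Agent.H419.EP Cfsg Cfsg.Geo
open scoped MatrixGroups

section model

variable {ι : Type} [Fintype ι] [DecidableEq ι] {F : Type*} [Field F] {Q : Type*} [Group Q]

/-- two models of the same group are isomorphic: `Q ≃ PΩ(Qf)` -/
noncomputable def omegaEquiv [Finite F] {Qf : (ι → F) → F} (hQ : IsNondegenerateQuadraticForm Qf)
    (hn : 5 ≤ Fintype.card ι) (m : Model Q (omegaGL Qf)) : POmega F Qf ≃* Q :=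
  (QuotientGroup.quotientMulEquivOfEq (by
    ext x
    rw [MonoidHom.mem_ker, H775.EP.center_iff_scalar hQ hn]
    exact (m.ker (H775.EP.omEquiv Qf x)).symm)).trans
  (QuotientGroup.quotientKerEquivOfSurjective (m.π.comp (H775.EP.omEquiv Qf).toMonoidHom)
    (m.surj.comp (H775.EP.omEquiv Qf).surjective))

theorem card_omega [Finite F] {Qf : (ι → F) → F} (hQ : IsNondegenerateQuadraticForm Qf)
    (hn : 5 ≤ Fintype.card ι) (m : Model Q (omegaGL Qf)) : Nat.card Q = Nat.card (POmega F Qf) :=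
  (Nat.card_congr (omegaEquiv hQ hn m).toEquiv).symm

end model

/-- the order of `Q = PΩ_{2k+1}(q)` -/
theorem card_odd {Q : Type*} [Group Q] {F : Type*} [Field F] [Fintype F] (hodd : Odd (Fintype.card F)) {k : ℕ}
    (hk : 3 ≤ k) (m : Model Q (omegaGL (quadFormOdd k F))) :
    2 * Nat.card Q = Fintype.card F ^ (k ^ 2) * ∏ i ∈ Finset.range k, (Fintype.card F ^ (2 * (i + 1)) - 1) := by
  rw [card_omega (H775.EP.nd_odd k F (H775.EP.two_ne_zero_of_odd hodd)) (by rw [H775.EP.card_odd]; omega) m]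
  exact S0292.result rfl hodd k hk

theorem card_nine {Q : Type*} [Group Q] {F : Type*} [Field F] [Fintype F] (hodd : Odd (Fintype.card F))
    (m : Model Q (omegaGL (quadFormOdd 4 F))) {q : ℕ} (hq : q ≤ Fintype.card F) :
    q ^ 16 * ((q ^ 2 - 1) * (q ^ 4 - 1) * (q ^ 6 - 1) * (q ^ 8 - 1)) ≤ 2 * Nat.card Q := by
  rw [card_odd hodd (by norm_num) m]
  simp only [Finset.prod_range_succ, Finset.prod_range_zero, one_mul]
  have := Fintype.card_pos (α := F)
  gcongr <;> first | omega | norm_num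

/-- the order of `A` -/
theorem index_bound {Q : Type*} [Group Q] [Finite Q] {A : Subgroup Q} {a B : ℕ} (ha : Nat.card A ≤ a)
    (hB : A.index ≤ B) : Nat.card Q ≤ a * B := by
  rw [← A.card_mul_index]
  exact Nat.mul_le_mul ha hB

instance : Fact (Nat.Prime 17) := ⟨by norm_num⟩

theorem card_aut_psl8 {K : Type} [Field K] [Fintype K] (hK : Fintype.card K = 8) :
    Nat.card (MulAut (Matrix.ProjectiveSpecialLinearGroup (Fin 2) K)) = 1512 := by
  have : Fact (Nat.Prime 2) := ⟨Nat.prime_two⟩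
  rw [S0813.result 2 3 (by norm_num) (by rw [hK]; norm_num) 2 le_rfl (fun _ => by norm_num),
    S0265.result, ClassicalGeometry.PSL2Basic.card_SL2, hK]
  norm_num

theorem card_aut_psl17 :
    Nat.card (MulAut (Matrix.ProjectiveSpecialLinearGroup (Fin 2) (ZMod 17))) = 4896 := by
  rw [S0813.result 17 1 le_rfl (by rw [ZMod.card, pow_one]) 2 le_rfl (fun _ => by norm_num),
    S0265.result, ClassicalGeometry.PSL2Basic.card_SL2, ZMod.card]
  norm_num

/-- `|A|` divides `|Aut L|` -/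
theorem HasSoc.card_dvd_aut {Q : Type*} [Group Q] {A : Subgroup Q} {L : Type*} [Group L] [Finite L]
    (h : HasSoc A L) : Nat.card A ∣ Nat.card (MulAut L) := by
  obtain ⟨f, hf⟩ := h.exists_hom
  exact Subgroup.card_dvd_of_injective f hf

/-- the general index bound for `soc(A) = L` simple, `l` the factorisation of `|Aut L|` -/
theorem index_le (hg : H59.EP.TwoGen.{0}) {Q : Type*} [Group Q] [Finite Q] (hs : IsSimpleGroup Q) {A : Subgroup Q} {Γ : Subgroup (MulAut Q)}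
    (h : EPT A Γ) {L : Type*} [Group L] [Finite L] (hL : HasSoc A L) (hsL : IsSimpleGroup L)
    (hna : ¬ ∀ a b : L, a * b = b * a) (l : List (ℕ × ℕ)) (h1 : ∀ x ∈ l, x.1.Prime ∧ 0 < x.2)
    (h2 : (l.map Prod.fst).Nodup) {N : ℕ} (hN : (l.map fun x => x.1 ^ x.2).prod = N)
    (hc : Nat.card (MulAut L) = N) (hB : N < 60 ^ 61) :
    Nat.card Q ≤ N * (1 + ((l.map fun x => H59.EP.gal x.1 x.2).sum * (N / 6) + N ^ 2 / 60 + N ^ 3 / 12744000) *
      (2 * (N / 6))) := by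
  have hd : Nat.card A ∣ N := hc ▸ HasSoc.card_dvd_aut hL
  have hN0 : 0 < N := by rw [← hc]; exact Nat.card_pos
  have hle : Nat.card A ≤ N := Nat.le_of_dvd hN0 hd
  have hab : ∀ K : Subgroup Q, K ≤ A → (∀ a ∈ A, ∀ k ∈ K, a * k * a⁻¹ ∈ K) → (∀ a ∈ K, ∀ b ∈ K, a * b = b * a) →
      K = ⊥ := fun K hK hn hab => hL.no_abelian hsL hna hK hn hab
  have h3 := H59.EP.index_le_of (H59.EP.EPT.ncard_le_gen_dvd h hg hab l h1 h2
    (by rw [hN]; exact hd) (by rw [hN]; exact hB))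
    (H173.EP.ub1 hs h (by norm_num) fun _ hx => H59.EP.EPT.six_le h hab hx) le_rfl
  rw [hN] at h3
  refine index_bound hle (h3.trans ?_)
  have h4 : 2 * (Nat.card A / 6) ≤ 2 * (N / 6) := Nat.mul_le_mul_left 2 (Nat.div_le_div_right hle)
  gcongr

theorem card_aut_alt (n : ℕ) (hn : 4 ≤ n) (h6 : n ≠ 6) :
    Nat.card (MulAut ↥(alternatingGroup (Fin n))) = n.factorial := by
  rw [← Nat.card_congr (Equiv.ofBijective _ (S2119.result n hn h6)), Nat.card_eq_fintype_card, Fintype.card_perm,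
    Fintype.card_fin]

/-! ### The row -/

/-- the statement of S5836 -/
def St5836 : Prop := ∀ {F : Type} [Field F] [Fintype F] (_ : Odd (Fintype.card F))
    (H : Subgroup (Matrix.GeneralLinearGroup (Unit ⊕ (Fin 4 ⊕ Fin 4)) F))
    (_ : Cfsg.Geo.IsMaximalIn (Cfsg.Geo.omegaGL (Cfsg.quadFormOdd 4 F)) H) (_ : Cfsg.Geo.InOrthogonalResidualClass H),
    ∃ (P : Subgroup (Matrix.GeneralLinearGroup (Unit ⊕ (Fin 4 ⊕ Fin 4)) F)) (p : ℕ), Cfsg.Geo.IsResidualCore H P ∧ p.Prime ∧ CharP F p ∧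
    (((∃ (K : Type) (_ : Field K) (_ : Fintype K), Fintype.card K = 8 ∧ Nonempty ((P ⧸ (Cfsg.Geo.scalars (Unit ⊕ (Fin 4 ⊕ Fin 4)) F).subgroupOf P) ≃* Matrix.ProjectiveSpecialLinearGroup (Fin 2) K)) ∧ ((Fintype.card F = p ∧ (p % 7 = 1 ∨ p % 7 = 6)) ∨ (Fintype.card F = p ^ 3 ∧ (p % 7 = 2 ∨ p % 7 = 5 ∨ p % 7 = 3 ∨ p % 7 = 4)))) ∨
     (Nonempty ((P ⧸ (Cfsg.Geo.scalars (Unit ⊕ (Fin 4 ⊕ Fin 4)) F).subgroupOf P) ≃* Matrix.ProjectiveSpecialLinearGroup (Fin 2) (ZMod 17)) ∧ ((Fintype.card F = p ∧ (p % 17 = 1 ∨ p % 17 = 16 ∨ p % 17 = 2 ∨ p % 17 = 15 ∨ p % 17 = 4 ∨ p % 17 = 13 ∨ p % 17 = 8 ∨ p % 17 = 9)) ∨ (Fintype.card F = p ^ 2 ∧ (p % 17 = 3 ∨ p % 17 = 14 ∨ p % 17 = 5 ∨ p % 17 = 12 ∨ p % 17 = 6 ∨ p % 17 = 11 ∨ p % 17 = 7 ∨ p % 17 = 10)))) ∨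
     (Nonempty ((P ⧸ (Cfsg.Geo.scalars (Unit ⊕ (Fin 4 ⊕ Fin 4)) F).subgroupOf P) ≃* alternatingGroup (Fin 10)) ∧ Fintype.card F = p ∧ p ≠ 5 ∧ p ≠ 11) ∨
     (Nonempty ((P ⧸ (Cfsg.Geo.scalars (Unit ⊕ (Fin 4 ⊕ Fin 4)) F).subgroupOf P) ≃* alternatingGroup (Fin 11)) ∧ Fintype.card F = 11) ∨
     (Nonempty ((P ⧸ (Cfsg.Geo.scalars (Unit ⊕ (Fin 4 ⊕ Fin 4)) F).subgroupOf P) ≃* Matrix.ProjectiveSpecialLinearGroup (Fin 2) F) ∧ 11 ≤ p) ∨
     ((∃ (K : Type) (_ : Field K) (_ : Fintype K), Fintype.card K = Fintype.card F ^ 2 ∧ Nonempty ((P ⧸ (Cfsg.Geo.scalars (Unit ⊕ (Fin 4 ⊕ Fin 4)) F).subgroupOf P) ≃* Matrix.ProjectiveSpecialLinearGroup (Fin 2) K)) ∧ Fintype.card F ≠ 3))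

theorem nonab {L : Type*} [Group L] {L' : Type*} [Group L'] (e : L ≃* L') (h : ¬ IsMulCommutative L) :
    ¬ ∀ a b : L', a * b = b * a := by
  intro h1
  exact h ⟨⟨fun a b => e.injective (by rw [map_mul, map_mul, h1])⟩⟩

theorem simple_of {L : Type*} [Group L] {L' : Type*} [Group L'] (e : L ≃* L') (h : IsSimpleGroup L) :
    IsSimpleGroup L' := by
  have := h
  exact e.symm.isSimpleGroup

/-- **The row `Ω₉(q)`**, except for `L₂(q)` and `L₂(q²)` in own characteristic -/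
theorem row_nine (hg : H59.EP.TwoGen.{0}) (hBr : H839.EP.Br) (hL : St5836) {Q : Type} [Group Q] [Finite Q]
    (hs : IsSimpleGroup Q) {A : Subgroup Q} {Γ : Subgroup (MulAut Q)} (h : EPT A Γ) {F : Type} [Field F] [Fintype F]
    (hodd : Odd (Fintype.card F)) (m : Model Q (omegaGL (quadFormOdd 4 F)))
    (hres : InOrthogonalResidualClass (m.hat A))
    (hown1 : ∀ p : ℕ, p.Prime → CharP F p → 11 ≤ p →
      HasSoc A (Matrix.ProjectiveSpecialLinearGroup (Fin 2) F) → False)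
    (hown2 : Fintype.card F ≠ 3 → ∀ (K : Type) [Field K] [Fintype K], Fintype.card K = Fintype.card F ^ 2 →
      HasSoc A (Matrix.ProjectiveSpecialLinearGroup (Fin 2) K) → False) : False := by
  obtain ⟨P, p, hP, hp, hcp, hcases⟩ := hL hodd (m.hat A) (m.isMaximalIn h.max) hres
  have hsoc := hasSoc_of_core m hP
  have hodd' := Nat.odd_iff.1 hodd
  rcases hcases with ⟨⟨K, _, _, hK, ⟨e⟩⟩, hq⟩ | ⟨⟨e⟩, hq⟩ | ⟨⟨e⟩, hq, h5, h11⟩ | ⟨⟨e⟩, hq⟩ | ⟨⟨e⟩, h11⟩ | ⟨⟨K, _, _, hK, ⟨e⟩⟩, hq⟩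
  · -- `L₂(8)`
    have h13 : 13 ≤ Fintype.card F := by
      rcases hq with ⟨h1, h2⟩ | ⟨h1, h2⟩
      · rw [h1] at hodd' ⊢
        by_contra hlt
        push Not at hlt
        have := hp.two_le
        interval_cases p <;> omega
      · have h3 : 3 ≤ p := by
          rcases hp.two_le.lt_or_eq with h4 | h4
          · exact h4
          · rw [h1, ← h4] at hodd'; norm_num at hodd'
        rw [h1]
        calc 13 ≤ 3 ^ 3 := by norm_num
          _ ≤ p ^ 3 := Nat.pow_le_pow_left h3 3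
    have h1 := index_le hg hs h (hsoc.congr e) (simple_of e hP.simple) (nonab e hP.nonabelian)
      [(2, 3), (3, 3), (7, 1)] (by decide) (by decide) (N := 1512) (by decide) (card_aut_psl8 hK) (by norm_num)
    have h2 := card_nine hodd m h13
    have h3 : ([(2, 3), (3, 3), (7, 1)].map fun x => H59.EP.gal x.1 x.2).sum = 43 := by decide
    rw [h3] at h1
    norm_num at h1 h2
    omega
  · -- `L₂(17)`
    have h9 : 9 ≤ Fintype.card F := by
      rcases hq with ⟨h1, h2⟩ | ⟨h1, h2⟩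
      · rw [h1] at hodd' ⊢
        by_contra hlt
        push Not at hlt
        have := hp.two_le
        interval_cases p <;> omega
      · have h3 : 3 ≤ p := by
          rcases hp.two_le.lt_or_eq with h4 | h4
          · exact h4
          · rw [h1, ← h4] at hodd'; norm_num at hodd'
        rw [h1]
        calc 9 = 3 ^ 2 := by norm_num
          _ ≤ p ^ 2 := Nat.pow_le_pow_left h3 2
    have h1 := index_le hg hs h (hsoc.congr e) (simple_of e hP.simple) (nonab e hP.nonabelian)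
      [(2, 5), (3, 2), (17, 1)] (by decide) (by decide) (N := 4896) (by decide) card_aut_psl17 (by norm_num)
    have h2 := card_nine hodd m h9
    have h3 : ([(2, 5), (3, 2), (17, 1)].map fun x => H59.EP.gal x.1 x.2).sum = 379 := by decide
    rw [h3] at h1
    norm_num at h1 h2
    omega
  · -- `A₁₀`
    have h3 : 3 ≤ Fintype.card F := by
      have := Fintype.one_lt_card (α := F)
      omega
    obtain ⟨N, hN1, hN2, hN3, ⟨f⟩⟩ := hsoc.congr e
    have h1 := H839.EP.index_le_of_socle_ten hBr h ⟨hN1, hN2, hN3⟩ f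
    have hle := (hsoc.congr e).card_le
    rw [card_aut_alt 10 (by norm_num) (by norm_num)] at hle
    have h2 := card_nine hodd m h3
    have h4 := index_bound hle h1
    rw [show Nat.factorial 10 = 3628800 by decide] at h4
    norm_num at h2 h4
    omega
  · -- `A₁₁`
    have h1 := index_le hg hs h (hsoc.congr e) (simple_of e hP.simple) (nonab e hP.nonabelian)
      [(2, 8), (3, 4), (5, 2), (7, 1), (11, 1)] (by decide) (by decide) (N := 39916800) (by decide)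
      (by rw [card_aut_alt 11 (by norm_num) (by norm_num)]; decide) (by norm_num)
    have h2 := card_nine hodd m hq.ge
    have h3 : ([(2, 8), (3, 4), (5, 2), (7, 1), (11, 1)].map fun x => H59.EP.gal x.1 x.2).sum = 417418 := by decide
    rw [h3] at h1
    norm_num at h1 h2
    omega
  · exact hown1 p hp hcp h11 (hsoc.congr e)
  · exact hown2 hq K hK (hsoc.congr e)

end Cfsg.Agent.H7.EP
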