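import Cfsg.Agent.H7.EP.LocTwo
import Cfsg.Agent.H7.EP.Nine
import Cfsg.Agent.H36.EPL.Bound
import Cfsg.Agent.S0293

/-!
# S3499, row `PΩ₈⁺(q)`: no `A` with socle `PSL₂(q³)`, `q` even (helper7)

* `card_le_two` : the bound for `|Q|` for `soc(A) = PSL₂(2ⁿ)`;
* `no_l2_cube` : `q¹² (q² - 1)(q⁴ - 1)²(q⁶ - 1) ≤ |Q|`;
* `no_l2_cube_plus` : `Q = PΩ₈⁺(q)`.
-/

set_option autoImplicit false
set_option linter.unusedSectionVars false
set_option linter.style.haveILetI false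

namespace Cfsg.Agent.H7.EP

open Subgroup Cfsg.Agent.H284 Cfsg.Agent.H419.EP Cfsg Cfsg.Geo
open scoped MatrixGroups

section

variable {Q : Type*} [Group Q] [Finite Q] {A : Subgroup Q} {Γ : Subgroup (MulAut Q)}

/-- **`soc(A) = PSL₂(2ⁿ)`: a bound for `|Q|`** -/
theorem card_le_two (hs : IsSimpleGroup Q) (h : EPT A Γ) {K : Type} [Field K] [Fintype K] [CharP K 2] {n : ℕ}
    (hn : Fintype.card K = 2 ^ n) (h4 : 4 ≤ Fintype.card K)
    (hS : HasSoc A (Matrix.ProjectiveSpecialLinearGroup (Fin 2) K)) {k N : ℕ} (hk : Fintype.card K = k)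
    (hN : k * (k ^ 2 - 1) = N) :
    Nat.card Q ≤ (n * N) * (1 + ((k ^ 2 + k + 1) + n * (N / 60)) * (2 * (n * N / 6))) := by
  haveI : Fact (Nat.Prime 2) := ⟨Nat.prime_two⟩
  have hn1 : 1 ≤ n := by
    rcases Nat.eq_zero_or_pos n with h0 | h0
    · rw [h0, pow_zero] at hn
      omega
    · exact h0
  have hSL : Nat.card (Matrix.SpecialLinearGroup (Fin 2) K) = N := by
    rw [ClassicalGeometry.PSL2Basic.card_SL2, hk, hN]
  have hAut : Nat.card (MulAut (Matrix.ProjectiveSpecialLinearGroup (Fin 2) K)) = n * N := by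
    have h1 := Cfsg.Agent.S0813.result 2 n hn1 hn 2 le_rfl (fun _ => by rw [← hn]; exact h4)
    rw [if_pos rfl, one_mul, Cfsg.Agent.S0265.result, hSL] at h1
    exact h1
  have hPSL : Nat.card (Matrix.ProjectiveSpecialLinearGroup (Fin 2) K) ≤ N := by
    rw [← hSL]
    exact Nat.card_le_card_of_surjective _ (QuotientGroup.mk_surjective)
  have hAle : Nat.card A ≤ n * N := hS.card_le.trans hAut.le
  obtain ⟨M, h1, h2, h3, ⟨e⟩⟩ := hS
  have hL : IsSimpleGroup (Matrix.ProjectiveSpecialLinearGroup (Fin 2) K) :=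
    Matrix.ProjectiveSpecialLinearGroup.rank_two_simple (by rw [Nat.card_eq_fintype_card]; exact h4)
  have hMs : IsSimpleGroup M := e.isSimpleGroup
  have hnc : ¬ ∀ a ∈ M, ∀ b ∈ M, a * b = b * a := by
    intro hc
    apply Cfsg.Agent.H36.EPL.psl_not_comm K
    intro a b
    apply e.symm.injective
    rw [map_mul, map_mul]
    exact Subtype.ext (hc _ (e.symm a).2 _ (e.symm b).2)
  have hab := Cfsg.Agent.H36.EPL.comm_mem (Cfsg.Agent.H36.EPL.out_comm h4) e h1 h2 h3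
  have hr := Cfsg.Agent.H273.EPU.ncard_le_locK h (N := M) ⟨h1, h2, h3⟩ hMs hnc hab
  have hr2 := hr.trans ((Cfsg.Agent.H273.EPU.ncard_locK_le e).trans (LocTwo.ncard_locK_two hn))
  have hno := Cfsg.Agent.H59.EP.noAb_of_soc h1 h2 hMs hnc h3
  have hub := Cfsg.Agent.H173.EP.ub1 hs h (μ := 6) (by norm_num)
    (fun _ hx => Cfsg.Agent.H59.EP.EPT.six_le h hno hx)
  rw [hk] at hr2
  refine index_bound hAle (hub.trans ?_)
  apply Nat.add_le_add_left
  apply Nat.mul_le_mul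
  · exact hr2.trans (Nat.add_le_add_left (Nat.mul_le_mul_left _ (Nat.div_le_div_right hPSL)) _)
  · exact Nat.mul_le_mul_left _ (Nat.div_le_div_right hAle)

theorem cube_le (f : ℕ) : f ^ 3 ≤ 4 * 2 ^ f := by
  rcases Nat.lt_or_ge f 4 with h | h
  · interval_cases f <;> norm_num
  · induction f, h using Nat.le_induction with
    | base => norm_num
    | succ m hm ih =>
      have h1 : (m + 1) ^ 3 ≤ 2 * m ^ 3 := by nlinarith [mul_le_mul hm hm (by norm_num) (by omega)]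
      calc (m + 1) ^ 3 ≤ 2 * m ^ 3 := h1
        _ ≤ 2 * (4 * 2 ^ m) := Nat.mul_le_mul_left _ ih
        _ = 4 * 2 ^ (m + 1) := by ring

/-- the numbers -/
theorem numbers_eight {f q : ℕ} (hf : 2 ≤ f) (hq : q = 2 ^ f) {c N : ℕ} (hN : q ^ 3 * ((q ^ 3) ^ 2 - 1) = N)
    (h1 : c ≤ (3 * f * N) * (1 + (((q ^ 3) ^ 2 + q ^ 3 + 1) + 3 * f * (N / 60)) * (2 * (3 * f * N / 6))))
    (h2 : q ^ 12 * ((q ^ 2 - 1) * (q ^ 4 - 1) ^ 2 * (q ^ 6 - 1)) ≤ c) : False := by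
  have hq4 : 4 ≤ q := by
    rw [hq]
    calc 4 = 2 ^ 2 := by norm_num
      _ ≤ 2 ^ f := Nat.pow_le_pow_right (by norm_num) hf
  have hfq : f ≤ q := by
    rw [hq]
    exact (Nat.lt_pow_self (by norm_num)).le
  have hf3 : f ^ 3 ≤ 4 * q := hq ▸ cube_le f
  obtain ⟨x, hx⟩ : ∃ x, x = q ^ 9 := ⟨_, rfl⟩
  have hNx : N ≤ x := by
    rw [← hN, hx]
    calc q ^ 3 * ((q ^ 3) ^ 2 - 1) ≤ q ^ 3 * (q ^ 3) ^ 2 := Nat.mul_le_mul_left _ (Nat.sub_le _ _)
      _ = q ^ 9 := by ring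
  have h3 : 3 * f * N ≤ 3 * (f * x) := by
    calc 3 * f * N ≤ 3 * f * x := Nat.mul_le_mul_left _ hNx
      _ = 3 * (f * x) := by ring
  have h4 : 2 * (3 * f * N / 6) ≤ f * x := by omega
  have h5 : 20 * (3 * f * (N / 60)) ≤ f * x := by
    have h6 : 60 * (N / 60) ≤ N := Nat.mul_div_le N 60
    calc 20 * (3 * f * (N / 60)) = f * (60 * (N / 60)) := by ring
      _ ≤ f * x := Nat.mul_le_mul_left _ (h6.trans hNx)
  have h6 : 80 * ((q ^ 3) ^ 2 + q ^ 3 + 1) ≤ f * x := by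
    obtain ⟨k, hk⟩ : ∃ k, k = q ^ 3 := ⟨_, rfl⟩
    have hk64 : 64 ≤ k := by
      rw [hk]
      calc 64 = 4 ^ 3 := by norm_num
        _ ≤ q ^ 3 := Nat.pow_le_pow_left hq4 3
    have hxk : x = k ^ 3 := by rw [hx, hk]; ring
    rw [← hk, hxk]
    calc 80 * (k ^ 2 + k + 1) ≤ 2 * k ^ 3 := by nlinarith [mul_le_mul hk64 hk64 (by norm_num) (by omega)]
      _ ≤ f * k ^ 3 := Nat.mul_le_mul_right _ hf
  obtain ⟨r, hr⟩ : ∃ r, r = ((q ^ 3) ^ 2 + q ^ 3 + 1) + 3 * f * (N / 60) := ⟨_, rfl⟩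
  have h7 : 16 * r ≤ f * x := by omega
  rw [← hr] at h1
  have h8 : 16 * c ≤ 48 * (f * x) + 3 * f ^ 3 * x ^ 3 := by
    calc 16 * c ≤ 16 * ((3 * f * N) * (1 + r * (2 * (3 * f * N / 6)))) := Nat.mul_le_mul_left _ h1
      _ ≤ 16 * ((3 * (f * x)) * (1 + r * (f * x))) := by
        apply Nat.mul_le_mul_left
        exact Nat.mul_le_mul h3 (Nat.add_le_add_left (Nat.mul_le_mul_left _ h4) _)
      _ = 48 * (f * x) + 3 * (f * x) * ((16 * r) * (f * x)) := by ring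
      _ ≤ 48 * (f * x) + 3 * (f * x) * ((f * x) * (f * x)) :=
        Nat.add_le_add_left (Nat.mul_le_mul_left _ (Nat.mul_le_mul_right _ h7)) _
      _ = 48 * (f * x) + 3 * f ^ 3 * x ^ 3 := by ring
  have h9 : 3 * f ^ 3 * x ^ 3 ≤ 12 * q ^ 28 := by
    calc 3 * f ^ 3 * x ^ 3 ≤ 3 * (4 * q) * x ^ 3 := Nat.mul_le_mul_right _ (Nat.mul_le_mul_left _ hf3)
      _ = 12 * q ^ 28 := by rw [hx]; ring
  have h10 : 48 * (f * x) ≤ q ^ 28 := by
    calc 48 * (f * x) ≤ 4 ^ 3 * (q * x) := Nat.mul_le_mul (by norm_num) (Nat.mul_le_mul_right _ hfq)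
      _ ≤ q ^ 3 * (q * x) := Nat.mul_le_mul_right _ (Nat.pow_le_pow_left hq4 3)
      _ = q ^ 13 := by rw [hx]; ring
      _ ≤ q ^ 28 := Nat.pow_le_pow_right (by omega) (by norm_num)
  have h11 : 16 * c ≤ 13 * q ^ 28 := by omega
  have e2 : 15 * q ^ 2 ≤ 16 * (q ^ 2 - 1) := by
    have : 4 ^ 2 ≤ q ^ 2 := Nat.pow_le_pow_left hq4 2
    omega
  have e4 : 31 * q ^ 4 ≤ 32 * (q ^ 4 - 1) := by
    have : 4 ^ 4 ≤ q ^ 4 := Nat.pow_le_pow_left hq4 4
    omega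
  have e6 : 31 * q ^ 6 ≤ 32 * (q ^ 6 - 1) := by
    have : 4 ^ 6 ≤ q ^ 6 := Nat.pow_le_pow_left hq4 6
    omega
  have h12 : 446865 * q ^ 28 ≤ 524288 * c := by
    calc 446865 * q ^ 28 = q ^ 12 * ((15 * q ^ 2) * (31 * q ^ 4) ^ 2 * (31 * q ^ 6)) := by ring
      _ ≤ q ^ 12 * ((16 * (q ^ 2 - 1)) * (32 * (q ^ 4 - 1)) ^ 2 * (32 * (q ^ 6 - 1))) := by
        apply Nat.mul_le_mul_left
        exact Nat.mul_le_mul (Nat.mul_le_mul e2 (Nat.pow_le_pow_left e4 2)) e6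
      _ = 524288 * (q ^ 12 * ((q ^ 2 - 1) * (q ^ 4 - 1) ^ 2 * (q ^ 6 - 1))) := by ring
      _ ≤ 524288 * c := Nat.mul_le_mul_left _ h2
  have h13 : 0 < q ^ 28 := Nat.pow_pos (by omega)
  omega

/-- **no `A` with socle `PSL₂(q³)`, `q` even, in groups of order at least `|PΩ₈⁺(q)|`** -/
theorem no_l2_cube (hs : IsSimpleGroup Q) (h : EPT A Γ) {F : Type*} [Field F] [Fintype F]
    (heven : Even (Fintype.card F)) {K : Type} [Field K] [Fintype K] (hK : Fintype.card K = Fintype.card F ^ 3)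
    (hS : HasSoc A (Matrix.ProjectiveSpecialLinearGroup (Fin 2) K))
    (hc : Fintype.card F ^ 12 * ((Fintype.card F ^ 2 - 1) * (Fintype.card F ^ 4 - 1) ^ 2 * (Fintype.card F ^ 6 - 1)) ≤
      Nat.card Q) : False := by
  haveI : Fact (Nat.Prime 2) := ⟨Nat.prime_two⟩
  obtain ⟨p, hp⟩ := CharP.exists F
  haveI hpp : Fact p.Prime := ⟨CharP.char_is_prime F p⟩
  obtain ⟨f, _, hF⟩ := FiniteField.card F p
  have hp2 : p = 2 := by
    rw [hF] at heven
    have h1 : 2 ∣ p := Nat.prime_two.dvd_of_dvd_pow (even_iff_two_dvd.1 heven)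
    exact ((Nat.prime_dvd_prime_iff_eq Nat.prime_two hpp.out).1 h1).symm
  subst hp2
  obtain ⟨q, hq⟩ : ∃ q, Fintype.card F = q := ⟨_, rfl⟩
  have hKn : Fintype.card K = 2 ^ (3 * (f : ℕ)) := by
    rw [hK, hF]
    ring
  haveI : CharP K 2 := charP_of_card_eq_prime_pow hKn
  rw [hq] at hK hc hF
  have hf1 : 1 ≤ (f : ℕ) := f.pos
  have hq2 : 2 ≤ q := by
    rw [hF]
    calc 2 = 2 ^ 1 := by norm_num
      _ ≤ 2 ^ (f : ℕ) := Nat.pow_le_pow_right (by norm_num) hf1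
  have h4 : 4 ≤ Fintype.card K := by
    rw [hK]
    calc 4 ≤ 2 ^ 3 := by norm_num
      _ ≤ q ^ 3 := Nat.pow_le_pow_left hq2 3
  have h5 := card_le_two hs h hKn h4 hS hK rfl
  rcases Nat.lt_or_ge (f : ℕ) 2 with h6 | h6
  · have h7 : (f : ℕ) = 1 := by omega
    have h8 : q = 2 := by rw [hF, h7, pow_one]
    rw [h7, h8] at h5
    rw [h8] at hc
    norm_num at h5 hc
    omega
  · exact numbers_eight h6 hF rfl h5 hc

theorem card_plus_eight {F : Type*} [Field F] [Fintype F] (heven : Even (Fintype.card F)) :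
    Nat.card (POmega F (quadFormPlus 4 F)) =
      Fintype.card F ^ 12 * ((Fintype.card F ^ 2 - 1) * (Fintype.card F ^ 4 - 1) ^ 2 * (Fintype.card F ^ 6 - 1)) := by
  have h1 := S0293.result (F := F) rfl 4 le_rfl
  have h2 : Nat.gcd 4 (Fintype.card F ^ 4 - 1) = 1 := by
    have h3 : 1 ≤ Fintype.card F ^ 4 := Nat.one_le_pow _ _ Fintype.card_pos
    have h4 : 2 ∣ Fintype.card F ^ 4 := dvd_pow (even_iff_two_dvd.1 heven) (by norm_num)
    have h5 : Nat.Coprime (2 ^ 2) (Fintype.card F ^ 4 - 1) := by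
      apply Nat.Coprime.pow_left
      rw [Nat.prime_two.coprime_iff_not_dvd]
      intro h6
      omega
    exact h5
  rw [h2, one_mul] at h1
  rw [h1]
  simp only [Finset.prod_range_succ, Finset.prod_range_zero, one_mul]
  ring_nf

/-- **row `PΩ₈⁺(q)`, `q` even, `soc(A) = PSL₂(q³)`** -/
theorem no_l2_cube_plus (hs : IsSimpleGroup Q) (h : EPT A Γ) {F : Type*} [Field F] [Fintype F]
    (heven : Even (Fintype.card F)) (m : Model Q (omegaGL (quadFormPlus 4 F))) {K : Type} [Field K] [Fintype K]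
    (hK : Fintype.card K = Fintype.card F ^ 3)
    (hS : HasSoc A (Matrix.ProjectiveSpecialLinearGroup (Fin 2) K)) : False := by
  refine no_l2_cube hs h heven hK hS (le_of_eq ?_)
  rw [card_omega (H775.EP.nd_plus 4 F) (by rw [H775.EP.card_plus]; norm_num) m]
  exact (card_plus_eight heven).symm

end

end Cfsg.Agent.H7.EP
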