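import Cfsg.Agent.H7.EP.Nine
import Cfsg.Agent.H36.EPL.Bound
import Cfsg.Agent.H982.EP.OmRes

/-!
# S3499, layer IV: the row `Ω₉(q)`, complete (helper7)

Remaining inputs: `TwoGen` (S3948), `Br` (S1000), `St5836` (S5836), not imported here because of their closure.
-/

set_option autoImplicit false

namespace Cfsg.Agent.H7.EP

open Subgroup Cfsg.Agent.H284 Cfsg.Agent.H419.EP Cfsg Cfsg.Geo
open scoped MatrixGroups

/-- **The row `Ω₉(q)`** -/
theorem rowOdd_four (hg : H59.EP.TwoGen.{0}) (hBr : H839.EP.Br) (hL : St5836) : H982.EP.RowOdd 4 := by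
  intro Q _ _ hs A Γ h F _ _ hodd m hres
  refine row_nine hg hBr hL hs h hodd m hres ?_ ?_
  · intro p hp hc h11 hS
    refine H36.EPL.own_nine hg hs h hodd ?_ m hS
    have h1 : p ∣ Fintype.card F := (CharP.cast_eq_zero_iff F p (Fintype.card F)).1 (Nat.cast_card_eq_zero F)
    have h2 := Nat.le_of_dvd Fintype.card_pos h1
    omega
  · intro _ K _ _ hK hS
    exact H36.EPL.own_nine_sq hg hs h hodd m hK hS

end Cfsg.Agent.H7.EP
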